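import Groth.Agent.LC.GorFlat
import Groth.Agent.LC.GorRows
import Groth.Agent.LC.MatlisExtra
import Mathlib.LinearAlgebra.Matrix.Adjugate
import Mathlib.RingTheory.Regular.RegularSequence
import Mathlib.RingTheory.KrullDimension.Regular

/-!
# Determinants of coefficient matrices modulo regular sequences, and Gorenstein quotients
-/

set_option autoImplicit false
set_option linter.unusedSectionVars false
set_option linter.style.haveILetI false

universe u

open Matrix IsLocalRing RingTheory.Sequence

namespace Groth.Agent.InvGor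

section Det

variable {R : Type u} [CommRing R] {n : ℕ}

/-- Cramer: the determinant carries the variables into the ideal. -/
theorem det_mul_mem (a : Matrix (Fin n) (Fin n) R) (x : Fin n → R) (I : Ideal R) (h : ∀ i, (a *ᵥ x) i ∈ I)
    (j : Fin n) : a.det * x j ∈ I := by
  have e : a.det • x = a.adjugate *ᵥ (a *ᵥ x) := by
    rw [mulVec_mulVec, adjugate_mul, smul_mulVec, one_mulVec]
  have := congrFun e j
  rw [Pi.smul_apply, smul_eq_mul] at this
  rw [this]
  show ∑ l, a.adjugate j l * (a *ᵥ x) l ∈ I
  exact Ideal.sum_mem _ fun l _ => I.mul_mem_left _ (h l)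

/-- Changing one row of the coefficient matrix changes the determinant inside the ideal. -/
theorem det_updateRow_mem (a : Matrix (Fin n) (Fin n) R) (x : Fin n → R) (i : Fin n) (v : Fin n → R)
    (hreg : ∀ r, r * (a *ᵥ x) i ∈ Ideal.span ((a *ᵥ x) '' {i}ᶜ) → r ∈ Ideal.span ((a *ᵥ x) '' {i}ᶜ))
    (hv : v ⬝ᵥ x = 0) : (a.updateRow i v).det ∈ Ideal.span ((a *ᵥ x) '' {i}ᶜ) := by
  refine hreg _ ?_
  show (a.updateRow i v).det * (∑ j, a i j * x j) ∈ _
  rw [Finset.mul_sum]
  refine Ideal.sum_mem _ fun j _ => ?_
  rw [mul_left_comm]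
  refine Ideal.mul_mem_left _ _ (det_mul_mem _ x _ (fun l => ?_) j)
  by_cases hl : l = i
  · subst hl
    show (a.updateRow l v) l ⬝ᵥ x ∈ _
    rw [updateRow_self, hv]
    exact zero_mem _
  · show (a.updateRow i v) l ⬝ᵥ x ∈ _
    rw [updateRow_ne hl]
    exact Ideal.subset_span ⟨l, hl, rfl⟩

/-- Two matrices expressing a sequence, regular in every order, have congruent determinants. -/
theorem det_sub_det_mem (x θ : Fin n → R)
    (hreg : ∀ i, ∀ r, r * θ i ∈ Ideal.span (θ '' {i}ᶜ) → r ∈ Ideal.span (θ '' {i}ᶜ))
    (a a' : Matrix (Fin n) (Fin n) R) (h : a *ᵥ x = θ) (h' : a' *ᵥ x = θ) :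
    a.det - a'.det ∈ Ideal.span (Set.range θ) := by
  classical
  let mix : Finset (Fin n) → Matrix (Fin n) (Fin n) R := fun s => Matrix.of fun i => if i ∈ s then a' i else a i
  have hmix : ∀ s, mix s *ᵥ x = θ := fun s => funext fun i => by
    show (if i ∈ s then a' i else a i) ⬝ᵥ x = θ i
    split_ifs
    · exact congrFun h' i
    · exact congrFun h i
  have key : ∀ s, a.det - (mix s).det ∈ Ideal.span (Set.range θ) := fun s => by
    induction s using Finset.induction_on with
    | empty =>
      have : mix ∅ = a := by ext i j; simp [mix]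
      rw [this, sub_self]
      exact zero_mem _
    | insert i s hi ih =>
      have e1 : mix (insert i s) = (mix s).updateRow i (a' i) := by
        ext l j
        by_cases hl : l = i
        · subst hl; simp [mix]
        · simp [mix, updateRow_ne hl, hl]
      have e2 : (mix s).updateRow i (a i) = mix s := by
        ext l j
        by_cases hl : l = i
        · subst hl; simp [mix, hi]
        · simp [updateRow_ne hl]
      have h2 : ((mix s).updateRow i (a i - a' i)).det ∈ Ideal.span (Set.range θ) := by
        refine Ideal.span_mono (Set.image_subset_range _ _) (hmix s ▸ det_updateRow_mem (mix s) x i _ ?_ ?_)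
        · rw [hmix s]; exact hreg i
        · rw [sub_dotProduct]
          exact sub_eq_zero.mpr ((congrFun h i).trans (congrFun h' i).symm)
      have e3 : ((mix s).updateRow i (a i)).det =
          ((mix s).updateRow i (a' i)).det + ((mix s).updateRow i (a i - a' i)).det := by
        rw [← det_updateRow_add, add_sub_cancel]
      rw [e2, ← e1] at e3
      convert add_mem ih h2 using 1
      rw [e3]; ring
  have : mix Finset.univ = a' := by ext i j; simp [mix]
  simpa [this] using key Finset.univ

end Det

section Regular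

variable {R : Type u} [CommRing R]

theorem weaklyRegular_concat_iff (rs : List R) (x : R) :
    IsWeaklyRegular R (rs ++ [x]) ↔
      IsWeaklyRegular R rs ∧ ∀ r, r * x ∈ Ideal.ofList rs → r ∈ Ideal.ofList rs := by
  rw [isWeaklyRegular_append_iff, isWeaklyRegular_singleton_iff]
  refine and_congr_right fun _ => ?_
  rw [isSMulRegular_quotient_iff_mem_of_smul_mem]
  simp [mul_comm]

theorem ofList_concat (rs : List R) (x : R) : Ideal.ofList (rs ++ [x]) = Ideal.ofList rs ⊔ Ideal.span {x} := by
  rw [Ideal.ofList_append, Ideal.ofList_singleton]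

variable [IsLocalRing R] [IsNoetherianRing R]

/-- A regular sequence of a local ring stays regular with any member moved to the end. -/
theorem regular_any_order {n : ℕ} (θ : Fin n → R) (h : IsWeaklyRegular R (List.ofFn θ))
    (hm : ∀ i, θ i ∈ maximalIdeal R) (i : Fin n) :
    ∀ r, r * θ i ∈ Ideal.span (θ '' {i}ᶜ) → r ∈ Ideal.span (θ '' {i}ᶜ) := by
  classical
  have hp : List.Perm (List.ofFn θ) (((Finset.univ.erase i).toList.map θ) ++ [θ i]) := by
    rw [List.ofFn_eq_map, show [θ i] = [i].map θ from rfl, ← List.map_append]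
    refine List.Perm.map θ ((List.perm_ext_iff_of_nodup (List.nodup_finRange n) ?_).mpr ?_)
    · exact List.nodup_append.mpr ⟨Finset.nodup_toList _, List.nodup_singleton _, by simp⟩
    · intro a
      simp only [List.mem_finRange, List.mem_append, Finset.mem_toList, Finset.mem_erase, List.mem_singleton,
        Finset.mem_univ, and_true, true_iff]
      exact (em (a = i)).symm
  have h' := (weaklyRegular_concat_iff _ _).mp
    (IsLocalRing.isWeaklyRegular_of_perm_of_subset_maximalIdeal h hp (by simpa [List.mem_ofFn] using hm))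
  have e : Ideal.ofList ((Finset.univ.erase i).toList.map θ) = Ideal.span (θ '' {i}ᶜ) := by
    show Ideal.span _ = _
    congr 1
    ext a
    simp [eq_comm]
  rw [← e]
  exact h'.2

/-- Gorenstein passes to and from the quotient by a weakly regular sequence in the maximal ideal. -/
theorem gorenstein_iff_quot (rs : List R) (h : IsWeaklyRegular R rs) (hm : ∀ r ∈ rs, r ∈ maximalIdeal R) :
    ∀ [IsLocalRing (R ⧸ Ideal.ofList rs)],
      LocCoh.IsGorensteinLocalRing R ↔ LocCoh.IsGorensteinLocalRing (R ⧸ Ideal.ofList rs) := by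
  induction rs using List.reverseRecOn with
  | nil =>
    intro _
    let e : R ≃+* R ⧸ Ideal.ofList ([] : List R) :=
      ((RingEquiv.quotientBot R).symm.trans (Ideal.quotEquivOfEq (Ideal.ofList_nil (R := R)).symm))
    exact ⟨fun _ => LC.gorenstein_of_ringEquiv e, fun _ => LC.gorenstein_of_ringEquiv e.symm⟩
  | append_singleton rs x ih =>
    intro _
    obtain ⟨h1, h2⟩ := (weaklyRegular_concat_iff rs x).mp h
    have hle : Ideal.ofList rs ≤ maximalIdeal R := Ideal.span_le.mpr fun r hr => hm r (List.mem_append_left _ hr)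
    have hne : Ideal.ofList rs ≠ ⊤ := fun he =>
      (maximalIdeal.isMaximal R).ne_top (top_le_iff.mp (he ▸ hle))
    haveI : Nontrivial (R ⧸ Ideal.ofList rs) := Ideal.Quotient.nontrivial_iff.mpr hne
    haveI : IsLocalRing (R ⧸ Ideal.ofList rs) :=
      IsLocalRing.of_surjective' _ Ideal.Quotient.mk_surjective
    have hxm : Ideal.Quotient.mk (Ideal.ofList rs) x ∈ maximalIdeal (R ⧸ Ideal.ofList rs) := by
      rw [← IsLocalRing.map_maximalIdeal_of_surjective _ Ideal.Quotient.mk_surjective]
      exact Ideal.mem_map_of_mem _ (hm x (by simp))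
    refine (ih h1 fun r hr => hm r (List.mem_append_left _ hr)).trans
      (LC.gorenstein_iff_of_surjective
        (Ideal.Quotient.factor ((ofList_concat rs x).symm ▸ le_sup_left : Ideal.ofList rs ≤ Ideal.ofList (rs ++ [x])))
        (Ideal.Quotient.factor_surjective _) hxm ?_ ?_)
    · intro a b hab
      obtain ⟨a, rfl⟩ := Ideal.Quotient.mk_surjective a
      obtain ⟨b, rfl⟩ := Ideal.Quotient.mk_surjective b
      simp only [smul_eq_mul, ← map_mul] at hab
      rw [Ideal.Quotient.eq] at hab ⊢
      exact h2 _ (by rw [sub_mul, mul_comm a, mul_comm b]; exact hab)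
    · rw [Ideal.Quotient.factor_ker, ofList_concat, Ideal.map_sup, Ideal.map_quotient_self, bot_sup_eq,
        Ideal.map_span, Set.image_singleton]

/-- An Artinian local ring all whose socle elements are multiples of one is Gorenstein. -/
theorem gorenstein_of_simple_socle (hnil : IsNilpotent (maximalIdeal R))
    (h : ∀ s : R, s ≠ 0 → (∀ r ∈ maximalIdeal R, r * s = 0) → ∀ t : R, (∀ r ∈ maximalIdeal R, r * t = 0) →
      ∃ c, t = c * s) : LocCoh.IsGorensteinLocalRing R := by
  obtain ⟨N, hN⟩ := hnil
  have htors : LocCoh.IsPowerTorsion (maximalIdeal R) R := fun z => ⟨N, fun r hr => by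
    rw [hN] at hr
    rw [(Submodule.mem_bot R).1 hr, zero_smul]⟩
  obtain ⟨r, hr0, hr⟩ := LC.exists_socle_multiple (maximalIdeal R) htors (one_ne_zero (α := R))
  rw [smul_eq_mul, mul_one] at hr0 hr
  have hr' : ∀ a ∈ maximalIdeal R, a * r = 0 := fun a ha => (Submodule.mem_torsionBySet_iff _ _).1 hr ⟨a, ha⟩
  exact LC.gorenstein_of_socle ⟨N, hN⟩ hr0 hr' fun t ht => h r hr0 hr' t ht

end Regular

end Groth.Agent.InvGor
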