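import Groth.Agent.InvGor.Main
import Groth.Agent.GrLib8.StarGorConv

/-!
# The invariants of a finite subgroup of the special linear group are Gorenstein
-/

set_option autoImplicit false
set_option linter.unusedSectionVars false
set_option linter.style.haveILetI false
set_option maxHeartbeats 800000

universe u

open MvPolynomial DirectSum

namespace Groth.Agent.InvGor

variable {k : Type u} [Field k] {n : ℕ}
  (A : Type u) [CommRing A] [Algebra A (MvPolynomial (Fin n) k)]

local notation "B" => MvPolynomial (Fin n) k
local notation "e" => algebraMap A (MvPolynomial (Fin n) k)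

/-- The forms of each degree. -/
noncomputable def forms (d : ℤ) : AddSubgroup (MvPolynomial (Fin n) k) where
  carrier := {p | (d < 0 → p = 0) ∧ p.IsHomogeneous d.toNat}
  add_mem' := fun ⟨h₁, h₂⟩ ⟨h₃, h₄⟩ => ⟨fun h => by rw [h₁ h, h₃ h, add_zero], h₂.add h₄⟩
  zero_mem' := ⟨fun _ => rfl, isHomogeneous_zero _ _ _⟩
  neg_mem' := fun ⟨h₁, h₂⟩ => ⟨fun h => by rw [h₁ h, neg_zero],
    (mem_homogeneousSubmodule _ _).mp (neg_mem ((mem_homogeneousSubmodule _ _).mpr h₂))⟩

/-- The invariants of each degree. -/
noncomputable def grading (d : ℤ) : AddSubgroup A :=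
  (forms (k := k) (n := n) d).comap (algebraMap A (MvPolynomial (Fin n) k)).toAddMonoidHom

theorem mem_grading {d : ℤ} {a : A} :
    a ∈ grading (k := k) (n := n) A d ↔ (d < 0 → e a = 0) ∧ (e a).IsHomogeneous d.toNat := Iff.rfl

variable {A} {G : Type u} [Group G] [MulSemiringAction G (MvPolynomial (Fin n) k)]
  [SMulCommClass G A (MvPolynomial (Fin n) k)] [Algebra.IsInvariant A (MvPolynomial (Fin n) k) G]
  [FaithfulSMul A (MvPolynomial (Fin n) k)] [Finite G]

variable (ρG : G →* Matrix.GeneralLinearGroup (Fin n) k)
  (hC : ∀ (g : G) (c : k), g • (C c : MvPolynomial (Fin n) k) = C c)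
  (hX : ∀ (g : G) (i : Fin n), g • (X i : MvPolynomial (Fin n) k) =
    ∑ j : Fin n, (ρG g : Matrix (Fin n) (Fin n) k) j i • (X j : MvPolynomial (Fin n) k))

include hC hX in
theorem isHomogeneous_smul (g : G) {p : B} {d : ℕ} (hp : p.IsHomogeneous d) : (g • p).IsHomogeneous d := by
  have hg : g • p = MvPolynomial.aeval (fun i => g • (X i : B)) p :=
    AlgHom.congr_fun (show actA hC g = MvPolynomial.aeval (fun i => g • (X i : B)) from
      MvPolynomial.algHom_ext fun i => by rw [aeval_X]; rfl) p
  rw [hg]
  have := hp.aeval (fun i => g • (X i : B)) (n := 1) fun i => by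
    rw [hX]
    exact IsHomogeneous.sum _ _ _ fun j _ => by
      rw [smul_eq_C_mul]
      exact (isHomogeneous_X k j).C_mul _
  rwa [one_mul] at this

include hC hX in
theorem exists_component (a : A) (d : ℕ) : ∃ a', e a' = homogeneousComponent d (e a) := by
  refine Algebra.IsInvariant.isInvariant (A := A) (G := G) _ fun g => ?_
  have hsum : ∀ p : B, g • homogeneousComponent d p = homogeneousComponent d (g • p) := fun p => by
    conv_rhs => rw [← sum_homogeneousComponent (φ := p), Finset.smul_sum, map_sum]
    simp only [homogeneousComponent_of_mem ((mem_homogeneousSubmodule _ _).mpr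
      (isHomogeneous_smul ρG hC hX g (homogeneousComponent_isHomogeneous _ p)))]
    rw [Finset.sum_ite_eq]
    split_ifs with h
    · rfl
    · rw [homogeneousComponent_eq_zero _ p (by simpa using h), smul_zero]
  rw [hsum, smul_algebraMap]

theorem component_eq {d d' : ℤ} (hd : 0 ≤ d') {p : B} (hp : p ∈ forms (k := k) (n := n) d) :
    homogeneousComponent d'.toNat p = if d = d' then p else 0 := by
  rcases lt_or_ge d 0 with hneg | hnn
  · rw [hp.1 hneg]; simp
  · rw [homogeneousComponent_of_mem ((mem_homogeneousSubmodule _ _).mpr hp.2)]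
    by_cases h : d = d'
    · rw [if_pos h, if_pos (by rw [h])]
    · rw [if_neg h, if_neg (by omega)]

include hC hX in
theorem isInternal_grading : DirectSum.IsInternal (grading (k := k) (n := n) A) := by
  classical
  have hinj : Function.Injective e := FaithfulSMul.algebraMap_injective A (MvPolynomial (Fin n) k)
  refine ⟨(injective_iff_map_eq_zero _).mpr fun x hx => ?_, fun a => ?_⟩
  · refine DFinsupp.ext fun d => Subtype.ext (hinj ?_)
    rw [DFinsupp.zero_apply, ZeroMemClass.coe_zero, map_zero]
    rcases lt_or_ge d 0 with hneg | hnn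
    · exact ((mem_grading A).mp (x d).2).1 hneg
    · let ψ : A →+ B := ((homogeneousComponent d.toNat).toAddMonoidHom).comp (algebraMap A B).toAddMonoidHom
      have key : ψ.comp (DirectSum.coeAddMonoidHom (grading (k := k) (n := n) A)) =
          (((algebraMap A B).toAddMonoidHom.comp (grading (k := k) (n := n) A d).subtype).comp
            (DFinsupp.evalAddMonoidHom d)) := DirectSum.addHom_ext fun i y => by
        show homogeneousComponent d.toNat (e (DirectSum.coeAddMonoidHom _ (DirectSum.of _ i y))) =
          e ((DirectSum.of (fun j => ↥(grading (k := k) (n := n) A j)) i y d : A))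
        rw [DirectSum.coeAddMonoidHom_of, component_eq hnn (d := i) (show e (y : A) ∈ forms (k := k) (n := n) i from y.2)]
        by_cases h : i = d
        · subst h; rw [if_pos rfl, DirectSum.of_eq_same]
        · rw [if_neg h, DirectSum.of_eq_of_ne _ _ _ (Ne.symm h), ZeroMemClass.coe_zero, map_zero]
      have := DFunLike.congr_fun key x
      simp only [AddMonoidHom.comp_apply, hx, map_zero] at this
      exact this.symm
  · choose c hc using fun d => exists_component ρG hC hX a d
    refine ⟨∑ d ∈ Finset.range ((e a).totalDegree + 1),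
      DirectSum.of (fun j => ↥(grading (k := k) (n := n) A j)) (d : ℤ) ⟨c d, (mem_grading A).mpr
        ⟨fun h => absurd h (by omega), by rw [hc, Int.toNat_natCast]; exact homogeneousComponent_isHomogeneous _ _⟩⟩, ?_⟩
    refine hinj ?_
    simp only [map_sum, DirectSum.coeAddMonoidHom_of, hc]
    exact sum_homogeneousComponent (φ := e a)

theorem gradedMonoid_grading : SetLike.GradedMonoid (grading (k := k) (n := n) A) where
  one_mem := ⟨fun h => absurd h (lt_irrefl _), by rw [RingHom.toAddMonoidHom_eq_coe]; simpa using isHomogeneous_one _ _⟩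
  mul_mem := fun {i j} a b ha hb => (mem_grading A).mpr ⟨fun h => by
    rw [map_mul]
    rcases lt_or_ge i 0 with hi | hi
    · rw [((mem_grading A).mp ha).1 hi, zero_mul]
    · rw [((mem_grading A).mp hb).1 (by omega), mul_zero], by
    rw [map_mul]
    rcases lt_or_ge i 0 with hi | hi
    · rw [((mem_grading A).mp ha).1 hi, zero_mul]; exact isHomogeneous_zero _ _ _
    rcases lt_or_ge j 0 with hj | hj
    · rw [((mem_grading A).mp hb).1 hj, mul_zero]; exact isHomogeneous_zero _ _ _
    rw [Int.toNat_add hi hj]
    exact ((mem_grading A).mp ha).2.mul ((mem_grading A).mp hb).2⟩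

/-- Only the component of degree zero has a constant term. -/
theorem constantCoeff_component [DirectSum.Decomposition (grading (k := k) (n := n) A)] (a : A) :
    constantCoeff (e (DirectSum.decompose (grading (k := k) (n := n) A) a 0 : A)) = constantCoeff (e a) := by
  classical
  have h := congrArg (fun z => constantCoeff (e z))
    (DirectSum.sum_support_decompose (grading (k := k) (n := n) A) a)
  simp only [map_sum] at h
  rw [← h]
  refine Eq.symm (Finset.sum_eq_single (0 : ℤ) (fun i _ hi => ?_) fun h => ?_)
  · have hi' := (mem_grading A).mp (SetLike.coe_mem (DirectSum.decompose (grading (k := k) (n := n) A) a i))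
    rcases lt_or_gt_of_ne hi with h | h
    · rw [hi'.1 h, map_zero]
    · rw [constantCoeff_eq]
      exact hi'.2.coeff_eq_zero (by rw [map_zero]; omega)
  · rw [DFinsupp.notMem_support_iff.mp h, ZeroMemClass.coe_zero, map_zero, map_zero]

include hC hX in
theorem isGorensteinRing (hG : IsUnit ((Nat.card G : ℕ) : k))
    (hdet : ∀ g : G, Matrix.det ((ρG g : Matrix (Fin n) (Fin n) k)) = 1) : LocCoh.IsGorensteinRing A := by
  classical
  obtain ⟨ρ, hρe, -⟩ := exists_reynolds (A := A) hC hG
  haveI : IsNoetherianRing A := by
    have hJ : ∀ J : Ideal A, (J.map e).comap e = J := fun J => le_antisymm (fun a ha => by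
      have : ∀ p ∈ J.map e, ∀ w, ρ (w * p) ∈ J := fun p hp => by
        induction hp using Submodule.span_induction with
        | mem y hy =>
          obtain ⟨j, hj, rfl⟩ := hy
          intro w
          rw [mul_comm, ← Algebra.smul_def, map_smul, smul_eq_mul]
          exact J.mul_mem_right _ hj
        | zero => simp
        | add p q _ _ hp hq => intro w; rw [mul_add, map_add]; exact add_mem (hp w) (hq w)
        | smul c p _ hp => intro w; rw [smul_eq_mul, ← mul_assoc]; exact hp _
      have h := this _ ha 1
      rwa [one_mul, hρe] at h) Ideal.le_comap_map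
    exact isNoetherianRing_iff.mpr (isNoetherian_iff'.mpr
      ((OrderEmbedding.ofMapLEIff (fun J : Ideal A => J.map e) fun J K =>
        ⟨fun h => by rw [← hJ J, ← hJ K]; exact Ideal.comap_mono h, fun h => Ideal.map_mono h⟩).wellFoundedGT))
  letI : DirectSum.Decomposition (grading (k := k) (n := n) A) := (isInternal_grading ρG hC hX).chooseDecomposition
  letI : GradedRing (grading (k := k) (n := n) A) := { gradedMonoid_grading with }
  have hmh : (invOrigin (k := k) (n := n) A).IsHomogeneous (grading (k := k) (n := n) A) := by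
    intro i a ha
    set y := (DirectSum.decompose (grading (k := k) (n := n) A) a i : A) with hy
    have hy' : y ∈ grading (k := k) (n := n) A i := SetLike.coe_mem _
    show constantCoeff (e y) = 0
    rcases lt_trichotomy i 0 with hi | rfl | hi
    · rw [((mem_grading A).mp hy').1 hi, map_zero]
    · rw [hy, constantCoeff_component]
      exact ha
    · exact (((mem_grading A).mp hy').2.coeff_eq_zero (by rw [map_zero]; omega) : coeff 0 (e y) = 0)
  let mH : HomogeneousIdeal (grading (k := k) (n := n) A) := ⟨invOrigin (k := k) (n := n) A, hmh⟩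
  have htop : mH ≠ ⊤ := fun h => (inferInstance : (invOrigin (k := k) (n := n) A).IsPrime).ne_top
    ((congrArg HomogeneousIdeal.toIdeal h).trans HomogeneousIdeal.toIdeal_top)
  have hle : ∀ I : HomogeneousIdeal (grading (k := k) (n := n) A), I ≠ ⊤ → I ≤ mH := by
    intro I hI a ha
    by_contra hc
    refine hI (HomogeneousIdeal.toIdeal_injective ?_)
    rw [HomogeneousIdeal.toIdeal_top, Ideal.eq_top_iff_one]
    have hy := I.isHomogeneous 0 ha
    set y := (DirectSum.decompose (grading (k := k) (n := n) A) a 0 : A)
    have hy0 := ((mem_grading A).mp (SetLike.coe_mem (DirectSum.decompose (grading (k := k) (n := n) A) a 0))).2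
    have hcne : constantCoeff (e y) ≠ 0 := fun h0 => hc (by
      show constantCoeff (e a) = 0
      rwa [← constantCoeff_component (k := k) (n := n) a])
    obtain ⟨z, hz⟩ := Algebra.IsInvariant.isInvariant (A := A) (G := G) (C (constantCoeff (e y))⁻¹ : B) fun g => hC g _
    have h1 : y * z = 1 := FaithfulSMul.algebraMap_injective A (MvPolynomial (Fin n) k) (by
      rw [map_mul, hz, map_one, show e y = C (constantCoeff (e y)) from ?_, ← map_mul, constantCoeff_C,
        mul_inv_cancel₀ hcne, map_one]
      exact (totalDegree_eq_zero_iff_eq_C.mp (Nat.le_zero.mp hy0.totalDegree_le)))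
    exact h1 ▸ I.toIdeal.mul_mem_right _ hy
  have hm : GrLC.IsStarLocal (grading (k := k) (n := n) A) mH :=
    ⟨⟨htop, fun I hI => by_contra fun h => hI.not_ge (hle I h)⟩,
      fun I hI => (le_antisymm (hle I hI.1) (by_contra fun h =>
        htop (hI.2 mH (lt_of_le_not_ge (hle I hI.1) h))))⟩
  haveI : mH.toIdeal.IsPrime := inferInstanceAs (invOrigin (k := k) (n := n) A).IsPrime
  exact GrLib8.StarGor.gorensteinRing_of_atStarMax hm (gorenstein_at_origin ρG hdet hC hX hG)

end Groth.Agent.InvGor
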