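import Groth.Agent.InvGor.Poly
import Mathlib.RingTheory.Invariant.Basic
import Mathlib.RingTheory.MvPolynomial.Homogeneous

/-!
# The invariants of a finite subgroup of the special linear group at the origin
-/

set_option autoImplicit false
set_option linter.unusedSectionVars false
set_option linter.style.haveILetI false
set_option maxHeartbeats 800000

universe u

open MvPolynomial IsLocalRing RingTheory.Sequence

namespace Groth.Agent.InvGor

variable {k : Type u} [Field k] {n : ℕ} {G : Type u} [Group G]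

local notation "B" => MvPolynomial (Fin n) k

variable [MulSemiringAction G (MvPolynomial (Fin n) k)]
  (A : Type u) [CommRing A] [Algebra A (MvPolynomial (Fin n) k)]

/-- The group element as an algebra map, given that it fixes the constants. -/
noncomputable def actA (hC : ∀ (g : G) (c : k), g • (C c : MvPolynomial (Fin n) k) = C c) (g : G) :
    MvPolynomial (Fin n) k →ₐ[k] MvPolynomial (Fin n) k :=
  { MulSemiringAction.toRingHom G (MvPolynomial (Fin n) k) g with commutes' := fun c => hC g c }

theorem actA_apply (hC : ∀ (g : G) (c : k), g • (C c : MvPolynomial (Fin n) k) = C c) (g : G) (p : B) :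
    actA hC g p = g • p := rfl

variable {A} [SMulCommClass G A (MvPolynomial (Fin n) k)] [Algebra.IsInvariant A (MvPolynomial (Fin n) k) G]
  [FaithfulSMul A (MvPolynomial (Fin n) k)] [Finite G]

local notation "e" => algebraMap A (MvPolynomial (Fin n) k)

/-- The averaging operator onto the invariants. -/
theorem exists_reynolds (hC : ∀ (g : G) (c : k), g • (C c : MvPolynomial (Fin n) k) = C c)
    (hG : IsUnit ((Nat.card G : ℕ) : k)) :
    ∃ ρ : MvPolynomial (Fin n) k →ₗ[A] A, (∀ a, ρ (e a) = a) ∧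
      ∀ (I : Ideal (MvPolynomial (Fin n) k)) (p d : MvPolynomial (Fin n) k),
        (∀ g : G, g • p - d ∈ I) → e (ρ p) - d ∈ I := by
  classical
  haveI := Fintype.ofFinite G
  obtain ⟨c, hc⟩ := hG
  have hinj : Function.Injective e := FaithfulSMul.algebraMap_injective A (MvPolynomial (Fin n) k)
  have hfix : ∀ p : B, ∀ h : G, h • (C ((↑c⁻¹ : k)) * ∑ g : G, g • p) = C ((↑c⁻¹ : k)) * ∑ g : G, g • p := fun p h => by
    rw [smul_mul', hC, Finset.smul_sum]
    congr 1
    simp only [smul_smul]
    exact Fintype.sum_equiv (Equiv.mulLeft h) _ _ fun g => rfl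
  choose ρ hρ using fun p : B => Algebra.IsInvariant.isInvariant (A := A) (G := G) _ (hfix p)
  have hcard : C ((↑c⁻¹ : k)) * ((Fintype.card G : ℕ) : B) = 1 := by
    rw [← map_natCast (C : k →+* B), ← map_mul, ← Nat.card_eq_fintype_card, ← hc, Units.inv_mul, map_one]
  refine ⟨{ toFun := ρ, map_add' := fun p q => hinj ?_, map_smul' := fun a p => hinj ?_ }, fun a => hinj ?_,
    fun I p d h => ?_⟩
  · rw [map_add, hρ, hρ, hρ]
    simp only [smul_add, Finset.sum_add_distrib, mul_add]
  · simp only [RingHom.id_apply, smul_eq_mul]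
    rw [map_mul, hρ, hρ, Algebra.smul_def]
    simp only [smul_mul', smul_algebraMap, ← Finset.mul_sum]
    ring
  · show e (ρ (e a)) = e a
    rw [hρ]
    simp only [smul_algebraMap, Finset.sum_const, Finset.card_univ, nsmul_eq_mul, ← mul_assoc, hcard, one_mul]
  · show e (ρ p) - d ∈ I
    rw [hρ, show C ((↑c⁻¹ : k)) * ∑ g : G, g • p - d = C ((↑c⁻¹ : k)) * ∑ g : G, (g • p - d) by
      rw [Finset.sum_sub_distrib, mul_sub, Finset.sum_const, Finset.card_univ, nsmul_eq_mul, ← mul_assoc, hcard,
        one_mul]]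
    exact I.mul_mem_left _ (Ideal.sum_mem _ fun g _ => h g)

variable (A) in
/-- The maximal ideal of the invariants below the origin. -/
noncomputable def invOrigin : Ideal A := (origin k n).comap (algebraMap A (MvPolynomial (Fin n) k))

instance : (invOrigin (k := k) (n := n) A).IsPrime := Ideal.IsPrime.comap _

/-- In an Artinian Gorenstein local ring every nonzero element divides every socle element. -/
theorem exists_mul_eq_socle {Q : Type u} [CommRing Q] [IsLocalRing Q] [IsNoetherianRing Q]
    [LocCoh.IsGorensteinLocalRing Q] (hnil : IsNilpotent (maximalIdeal Q)) {a : Q} (ha : a ≠ 0) {d : Q}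
    (hd : ∀ w ∈ maximalIdeal Q, w * d = 0) : ∃ c, d = c * a := by
  obtain ⟨N, hN⟩ := hnil
  obtain ⟨r, hr0, hr⟩ := LC.exists_socle_multiple (maximalIdeal Q) (M := Q)
    (fun y => ⟨N, fun r hr => by rw [hN] at hr; rw [(Submodule.mem_bot Q).1 hr, zero_smul]⟩) ha
  obtain ⟨-, hsimp⟩ := LC.socle_of_gorenstein hr0 fun w hw => (Submodule.mem_torsionBySet_iff _ _).1 hr ⟨w, hw⟩
  obtain ⟨c, hc⟩ := hsimp d hd
  exact ⟨c * r, by rw [hc, smul_eq_mul, mul_assoc]⟩

theorem mk_mem_pow {R : Type u} [CommRing R] (I m : Ideal R) {j : ℕ} {z : R} (hz : z ∈ m ^ j) :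
    Ideal.Quotient.mk I z ∈ m.map (Ideal.Quotient.mk I) ^ j := by
  rw [← Ideal.map_pow]
  exact Ideal.mem_map_of_mem _ hz

theorem ringKrullDim_eq_zero_of_isNilpotent {Q : Type u} [CommRing Q] [IsLocalRing Q] [IsNoetherianRing Q]
    (hnil : IsNilpotent (maximalIdeal Q)) : ringKrullDim Q = 0 :=
  ringKrullDimZero_iff_ringKrullDim_eq_zero.mp
    (isArtinianRing_iff_krullDimLE_zero.mp ((isArtinianRing_iff_isNilpotent_maximalIdeal Q).mpr hnil))

variable (ρG : G →* Matrix.GeneralLinearGroup (Fin n) k)
  (hdet : ∀ g : G, Matrix.det ((ρG g : Matrix (Fin n) (Fin n) k)) = 1)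
  (hC : ∀ (g : G) (c : k), g • (C c : MvPolynomial (Fin n) k) = C c)
  (hX : ∀ (g : G) (i : Fin n), g • (X i : MvPolynomial (Fin n) k) =
    ∑ j : Fin n, (ρG g : Matrix (Fin n) (Fin n) k) j i • (X j : MvPolynomial (Fin n) k))

include hC hX in
theorem constantCoeff_smul (g : G) (p : B) : constantCoeff (g • p) = constantCoeff p := by
  refine RingHom.congr_fun (show (constantCoeff : B →+* k).comp (actA hC g).toRingHom = constantCoeff from
    MvPolynomial.ringHom_ext (fun c => ?_) fun i => ?_) p
  · show constantCoeff (g • (C c : B)) = _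
    rw [hC]
  · show constantCoeff (g • (X i : B)) = _
    rw [hX, map_sum, constantCoeff_X]
    exact Finset.sum_eq_zero fun j _ => by rw [smul_eq_C_mul, map_mul, constantCoeff_X, mul_zero]

include hC hX in
theorem smul_mem_origin_iff (g : G) (p : B) : g • p ∈ origin k n ↔ p ∈ origin k n := by
  rw [mem_origin_iff, mem_origin_iff, constantCoeff_smul ρG hC hX]

include hC hX in
theorem exists_norm (s : B) (hs : s ∉ origin k n) :
    ∃ u ∉ invOrigin (k := k) (n := n) A, ∃ t, e u = t * s := by
  classical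
  haveI := Fintype.ofFinite G
  obtain ⟨u, hu⟩ := Algebra.IsInvariant.isInvariant (A := A) (G := G) (∏ g : G, g • s) fun h => by
    rw [Finset.smul_prod']
    simp only [smul_smul]
    exact Fintype.prod_equiv (Equiv.mulLeft h) _ _ fun g => rfl
  refine ⟨u, fun hmem => ?_, ∏ g ∈ (Finset.univ : Finset G).erase 1, g • s, ?_⟩
  · have h1 : e u ∈ origin k n := hmem
    rw [hu] at h1
    obtain ⟨g, -, hg⟩ := (Ideal.IsPrime.prod_mem_iff).mp h1
    exact hs ((smul_mem_origin_iff ρG hC hX g s).mp hg)
  · rw [hu, ← Finset.prod_erase_mul Finset.univ (fun g : G => g • s) (Finset.mem_univ (1 : G)), one_smul]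

include hC hX hdet in
/-- The invariants are Gorenstein at the origin. -/
theorem gorenstein_at_origin (hG : IsUnit ((Nat.card G : ℕ) : k)) [IsNoetherianRing A] :
    LocCoh.IsGorensteinLocalRing (Localization.AtPrime (invOrigin (k := k) (n := n) A)) := by
  classical
  obtain ⟨ρ, hρe, hρI⟩ := exists_reynolds (A := A) hC hG
  haveI : Algebra.IsIntegral A B := Algebra.IsInvariant.isIntegral A B G
  set m : Ideal A := invOrigin (k := k) (n := n) A with hm
  let Am := Localization.AtPrime m
  haveI : IsNoetherianRing Am := IsLocalization.isNoetherianRing m.primeCompl Am inferInstance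
  let toL : A →+* Loc k n := (algebraMap B (Loc k n)).comp e
  let ι : Am →+* Loc k n := Localization.localRingHom m (origin k n) e rfl
  have hι : ∀ a, ι (algebraMap A Am a) = toL a := fun a => Localization.localRingHom_to_map m (origin k n) e rfl a
  have hιm : ∀ z, ι z ∈ maximalIdeal (Loc k n) → z ∈ maximalIdeal Am := fun z hz hu => hz (hu.map ι)
  -- contraction
  have contract : ∀ (J : Ideal A) (a : A), toL a ∈ J.map toL → algebraMap A Am a ∈ J.map (algebraMap A Am) := by
    intro J a ha
    rw [← Ideal.map_map] at ha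
    obtain ⟨s, hs, h1⟩ := (mem_map_loc_iff _ _).mp ha
    obtain ⟨v, hv, t, ht⟩ := exists_norm (A := A) ρG hC hX s hs
    have h2 : e (v * a) ∈ J.map e := by
      rw [map_mul, ht, mul_assoc]
      exact Ideal.mul_mem_left _ _ h1
    have h3 : v * a ∈ J := by
      have : ∀ p ∈ J.map e, ρ p ∈ J := fun p hp => by
        induction hp using Submodule.span_induction with
        | mem y hy => obtain ⟨j, hj, rfl⟩ := hy; rwa [hρe]
        | zero => simp
        | add p q _ _ hp hq => rw [map_add]; exact add_mem hp hq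
        | smul c p hp' _ =>
          have hq : ∀ (w : B), ∀ p ∈ J.map e, ρ (w * p) ∈ J := fun w p hp => by
            induction hp using Submodule.span_induction generalizing w with
            | mem y hy =>
              obtain ⟨j, hj, rfl⟩ := hy
              rw [mul_comm, ← Algebra.smul_def, map_smul, smul_eq_mul]
              exact J.mul_mem_right _ hj
            | zero => simp
            | add p q _ _ hp hq => rw [mul_add, map_add]; exact add_mem (hp w) (hq w)
            | smul c p _ hp => rw [smul_eq_mul, ← mul_assoc]; exact hp _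
          exact hq c p hp'
      have h4 := this _ h2
      rwa [hρe] at h4
    exact (Ideal.unit_mul_mem_iff_mem _ (IsLocalization.map_units Am (⟨v, hv⟩ : m.primeCompl))).mp
      (by rw [← map_mul]; exact Ideal.mem_map_of_mem _ h3)
  have hcon : ∀ (J : Ideal A) (z : Am), ι z ∈ J.map toL → z ∈ J.map (algebraMap A Am) := by
    intro J z hz
    obtain ⟨a, s, rfl⟩ := IsLocalization.exists_mk'_eq m.primeCompl z
    have h1 : toL a ∈ J.map toL := by
      have := Ideal.mul_mem_left _ (ι (algebraMap A Am s)) hz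
      rwa [← map_mul, IsLocalization.mk'_spec', hι] at this
    rw [IsLocalization.mk'_eq_mul_mk'_one]
    exact Ideal.mul_mem_right _ _ (contract J a h1)
  -- a maximal regular sequence of invariants
  have hlist : ∀ ts : List A, Ideal.ofList (ts.map toL) = (Ideal.ofList ts).map toL := fun ts =>
    (Ideal.map_ofList toL ts).symm
  obtain ⟨I, ⟨ts, rfl, htm, hts⟩, hmax⟩ := set_has_maximal_iff_noetherian.mpr (inferInstance : IsNoetherian A A)
    {I : Ideal A | ∃ ts : List A, Ideal.ofList ts = I ∧ (∀ t ∈ ts, t ∈ m) ∧ IsWeaklyRegular (Loc k n) (ts.map toL)}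
    ⟨⊥, [], Ideal.ofList_nil, fun t ht => absurd ht List.not_mem_nil, IsWeaklyRegular.nil _ _⟩
  have htL : ∀ r ∈ ts.map toL, r ∈ maximalIdeal (Loc k n) := by
    simp only [List.mem_map]
    rintro _ ⟨t, ht, rfl⟩
    exact (map_mem_maximal_iff _).mpr (htm t ht)
  have hle : Ideal.ofList (ts.map toL) ≤ maximalIdeal (Loc k n) := Ideal.span_le.mpr htL
  haveI : Nontrivial (Loc k n ⧸ Ideal.ofList (ts.map toL)) := Ideal.Quotient.nontrivial_iff.mpr fun h =>
    (maximalIdeal.isMaximal (Loc k n)).ne_top (top_le_iff.mp (h ▸ hle))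
  let Q := Loc k n ⧸ Ideal.ofList (ts.map toL)
  haveI : IsLocalRing Q := IsLocalRing.of_surjective' _ Ideal.Quotient.mk_surjective
  haveI : LocCoh.IsGorensteinLocalRing Q :=
    (gorenstein_iff_quot _ hts htL).mp LC.gorenstein_of_isRegularLocalRing
  have hQm : maximalIdeal Q = (maximalIdeal (Loc k n)).map (Ideal.Quotient.mk _) :=
    (IsLocalRing.map_maximalIdeal_of_surjective _ Ideal.Quotient.mk_surjective).symm
  obtain ⟨σ₀, hσ0, hσm⟩ : ∃ s : Q, s ≠ 0 ∧ ∀ r ∈ maximalIdeal Q, r * s = 0 := by
    by_contra hno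
    obtain ⟨x, hx, hxr⟩ := (LC.exists_regular_or_socle Q).resolve_right hno
    have hass : ∀ q ∈ associatedPrimes Q Q, ¬ m ≤ q.comap ((Ideal.Quotient.mk _).comp toL) := fun q hq hmq => by
      haveI := IsAssociatedPrime.isPrime hq
      let P : Ideal B := (q.comap (Ideal.Quotient.mk (Ideal.ofList (ts.map toL)))).comap (algebraMap B (Loc k n))
      haveI : P.IsPrime := inferInstance
      have hPM : P ≤ origin k n := fun p hp =>
        (map_mem_maximal_iff p).mp (IsLocalRing.le_maximalIdeal (Ideal.IsPrime.comap _).ne_top hp)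
      have hPeq : P = origin k n := by
        rcases hPM.lt_or_eq with hlt | h
        · exact absurd (le_antisymm (Ideal.comap_mono hPM) hmq) (Ideal.IsIntegral.comap_lt_comap hlt).ne
        · exact h
      have hxq : x ∈ q := by
        have hmax : maximalIdeal Q ≤ q := by
          rw [hQm, ← Localization.AtPrime.map_eq_maximalIdeal, Ideal.map_map, Ideal.map_le_iff_le_comap,
            ← Ideal.comap_comap]
          exact hPeq.ge
        exact hmax hx
      have : x ∈ ⋃ p ∈ associatedPrimes Q Q, (p : Set Q) := Set.mem_biUnion hq hxq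
      rw [biUnion_associatedPrimes_eq_compl_nonZeroDivisors] at this
      exact this (isRegular_iff_mem_nonZeroDivisors.mp
        ⟨hxr, fun a b h => hxr (show x * a = x * b from (mul_comm x a).trans (h.trans (mul_comm b x)))⟩)
    let F : Finset (Ideal A) :=
      (associatedPrimes.finite Q Q).toFinset.image fun q => q.comap ((Ideal.Quotient.mk _).comp toL)
    have hF : ¬ ((m : Set A) ⊆ ⋃ p ∈ (F : Set (Ideal A)), (p : Set A)) := fun hsub => by
      obtain ⟨p, hp, hmp⟩ := (Ideal.subset_union_prime (f := fun p => p) ⊥ ⊥ (fun p hp _ _ => by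
        obtain ⟨q, hq, rfl⟩ := Finset.mem_image.mp hp
        haveI := IsAssociatedPrime.isPrime ((Set.Finite.mem_toFinset _).mp hq)
        exact Ideal.IsPrime.comap _)).mp hsub
      obtain ⟨q, hq, rfl⟩ := Finset.mem_image.mp hp
      exact hass q ((Set.Finite.mem_toFinset _).mp hq) hmp
    obtain ⟨t, htm', htF⟩ := Set.not_subset.mp hF
    have htreg : ∀ r : Q, r * Ideal.Quotient.mk _ (toL t) = 0 → r = 0 := fun r hr => by
      have hnz : Ideal.Quotient.mk (Ideal.ofList (ts.map toL)) (toL t) ∈ nonZeroDivisors Q := by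
        by_contra hz
        have : Ideal.Quotient.mk _ (toL t) ∈ ⋃ p ∈ associatedPrimes Q Q, (p : Set Q) := by
          rw [biUnion_associatedPrimes_eq_compl_nonZeroDivisors]; exact hz
        obtain ⟨q, hq, hq'⟩ := Set.mem_iUnion₂.mp this
        exact htF (Set.mem_biUnion
          (Finset.mem_coe.mpr (Finset.mem_image.mpr ⟨q, (Set.Finite.mem_toFinset _).mpr hq, rfl⟩)) hq')
      exact (mul_right_mem_nonZeroDivisors_eq_zero_iff hnz).mp hr
    refine hmax (Ideal.ofList (ts ++ [t])) ⟨ts ++ [t], rfl, ?_, ?_⟩ ?_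
    · simp only [List.mem_append, List.mem_singleton]
      rintro s (hs | rfl)
      exacts [htm s hs, htm']
    · rw [List.map_append]
      refine (weaklyRegular_concat_iff _ _).mpr ⟨hts, fun r hr => ?_⟩
      rw [← Ideal.Quotient.eq_zero_iff_mem] at hr ⊢
      rw [map_mul] at hr
      exact htreg _ hr
    · rw [ofList_concat]
      refine lt_of_le_of_ne le_sup_left fun heq => one_ne_zero (htreg (1 : Q) ?_)
      rw [one_mul, Ideal.Quotient.eq_zero_iff_mem, hlist]
      exact Ideal.mem_map_of_mem _ (heq ▸ Submodule.mem_sup_right (Ideal.mem_span_singleton_self t))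
  obtain ⟨hnil, hsimple⟩ := LC.socle_of_gorenstein (A := Q) hσ0 hσm
  -- its length
  have hlen : ts.length = n := by
    have h0 : ringKrullDim Q = 0 := ringKrullDim_eq_zero_of_isNilpotent (Q := Q) hnil
    have h := ringKrullDim_add_length_eq_ringKrullDim_of_isRegular _
      ((IsLocalRing.isRegular_iff_isWeaklyRegular_of_subset_maximalIdeal htL).mpr hts)
    rw [ringKrullDim_loc, show ringKrullDim (Loc k n ⧸ Ideal.ofList (ts.map toL)) = 0 from h0, zero_add,
      List.length_map] at h
    exact_mod_cast h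
  obtain ⟨θ, rfl⟩ : ∃ θ : Fin n → A, ts = List.ofFn θ :=
    ⟨fun i => ts.get (i.cast hlen.symm), by subst hlen; exact (List.ofFn_get ts).symm⟩
  have hofA : Ideal.ofList (List.ofFn θ) = Ideal.span (Set.range θ) := by
    show Ideal.span _ = _
    congr 1; ext z; simp
  let θL : Fin n → Loc k n := fun i => toL (θ i)
  have hofL : Ideal.ofList ((List.ofFn θ).map toL) = Ideal.span (Set.range θL) := by
    show Ideal.span _ = _
    congr 1; ext z; simp [θL]
  have hθm : ∀ i, θL i ∈ maximalIdeal (Loc k n) := fun i => (map_mem_maximal_iff _).mpr (htm _ (by simp))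
  have hθany := regular_any_order θL (by rwa [List.map_ofFn] at hts) hθm
  -- the determinant
  have hex : ∀ i, ∃ a : Fin n → B, ∑ j, a j * X j = e (θ i) := fun i =>
    (Ideal.mem_span_range_iff_exists_fun (R := B)).mp (origin_eq_span (k := k) (n := n) ▸ htm _ (by simp))
  choose a ha using hex
  let aM : Matrix (Fin n) (Fin n) B := Matrix.of a
  let φ : B →+* Loc k n := algebraMap B (Loc k n)
  let xL : Fin n → Loc k n := fun j => φ (X j)
  let Δ : Loc k n := φ aM.det
  have hΔdet : ∀ M : Matrix (Fin n) (Fin n) B, φ M.det = (M.map φ).det := fun M => RingHom.map_det φ M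
  have hmul : ∀ (M : Matrix (Fin n) (Fin n) B), (∀ i, ∑ j, M i j * X j = e (θ i)) → (M.map φ).mulVec xL = θL :=
    fun M hM => funext fun i => by
      show ∑ j, φ (M i j) * φ (X j) = φ (e (θ i))
      rw [← hM i, map_sum]
      simp only [map_mul]
  have hΔm : ∀ j, Δ * xL j ∈ Ideal.span (Set.range θL) := fun j => by
    show φ aM.det * _ ∈ _
    rw [hΔdet]
    exact det_mul_mem _ _ _ (fun i => (hmul aM ha).symm ▸ Ideal.subset_span ⟨i, rfl⟩) j
  obtain ⟨N, hN⟩ := hnil
  have hNle : maximalIdeal (Loc k n) ^ (N + 1) ≤ Ideal.span (Set.range θL) := fun z hz => by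
    rw [← hofL, ← Ideal.Quotient.eq_zero_iff_mem]
    have h1 : Ideal.Quotient.mk (Ideal.ofList ((List.ofFn θ).map toL)) z ∈ maximalIdeal Q ^ (N + 1) := by
      rw [hQm]
      exact mk_mem_pow _ _ hz
    rw [pow_succ, hN, zero_mul] at h1
    exact Ideal.mem_bot.mp h1
  have hΔ0 : Δ ∉ Ideal.span (Set.range θL) := by
    show φ aM.det ∉ _
    rw [hΔdet]
    exact det_notMem θL hNle _ (hmul aM ha)
  have hΔg : ∀ g : G, φ (g • aM.det) - Δ ∈ Ideal.span (Set.range θL) := fun g => by
    let P : Matrix (Fin n) (Fin n) B := ((ρG g : Matrix (Fin n) (Fin n) k).map C).transpose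
    have hP : P.det = 1 := by
      rw [Matrix.det_transpose, show ((ρG g : Matrix (Fin n) (Fin n) k).map C) =
        (C : k →+* B).mapMatrix (ρG g : Matrix (Fin n) (Fin n) k) from rfl, ← RingHom.map_det, hdet, map_one]
    have h1 : g • aM.det = (aM.map (actA hC g) * P).det := by
      rw [Matrix.det_mul, hP, mul_one]
      exact (actA hC g).map_det aM
    have h2 : ∀ i, ∑ j, (aM.map (actA hC g) * P) i j * X j = e (θ i) := fun i => by
      have hg : ∀ l, g • (X l : B) = ∑ j, P l j * X j := fun l => by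
        rw [hX]
        exact Finset.sum_congr rfl fun j _ => by rw [smul_eq_C_mul]; rfl
      rw [← smul_algebraMap g (θ i), ← ha i, Finset.smul_sum]
      simp only [smul_mul', hg, Finset.mul_sum, Matrix.mul_apply, Finset.sum_mul]
      rw [Finset.sum_comm]
      exact Finset.sum_congr rfl fun l _ => Finset.sum_congr rfl fun j _ => (mul_assoc _ _ _)
    show _ - φ aM.det ∈ _
    rw [h1, hΔdet, hΔdet]
    exact det_sub_det_mem xL θL hθany _ _ (hmul _ h2) (hmul aM ha)
  -- the invariants modulo the sequence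
  have hcon' : ∀ z : Am, ι z ∈ Ideal.span (Set.range θL) → z ∈ Ideal.span (Set.range fun i => algebraMap A Am (θ i)) :=
    fun z hz => by
      have := hcon (Ideal.span (Set.range θ)) z (by rwa [Ideal.map_span, ← Set.range_comp])
      rwa [Ideal.map_span, ← Set.range_comp] at this
  let sA : List Am := (List.ofFn θ).map (algebraMap A Am)
  have hsA : Ideal.ofList sA = Ideal.span (Set.range fun i => algebraMap A Am (θ i)) := by
    show Ideal.span _ = _
    congr 1; ext z; simp [sA]
  have hsAm : ∀ r ∈ sA, r ∈ maximalIdeal Am := by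
    simp only [sA, List.mem_map]
    rintro _ ⟨t, ht, rfl⟩
    exact (IsLocalization.AtPrime.to_map_mem_maximal_iff Am m t).mpr (htm t ht)
  have hwA : ∀ l : List A, IsWeaklyRegular (Loc k n) (l.map toL) → IsWeaklyRegular Am (l.map (algebraMap A Am)) := by
    intro l
    induction l using List.reverseRecOn with
    | nil => intro _; exact IsWeaklyRegular.nil _ _
    | append_singleton l t ih =>
      intro hl
      rw [List.map_append] at hl ⊢
      obtain ⟨hl1, hl2⟩ := (weaklyRegular_concat_iff _ _).mp hl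
      refine (weaklyRegular_concat_iff _ _).mpr ⟨ih hl1, fun r hr => ?_⟩
      rw [← Ideal.map_ofList] at hr ⊢
      refine hcon _ r ?_
      rw [← Ideal.map_ofList toL l] at hl2
      refine hl2 _ ?_
      have h1 := Ideal.mem_map_of_mem ι hr
      rw [Ideal.map_map, show ι.comp (algebraMap A Am) = toL from RingHom.ext hι, map_mul, hι] at h1
      exact h1
  haveI : Nontrivial (Am ⧸ Ideal.ofList sA) := Ideal.Quotient.nontrivial_iff.mpr fun h =>
    (maximalIdeal.isMaximal Am).ne_top (top_le_iff.mp (h ▸ Ideal.span_le.mpr hsAm))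
  haveI : IsLocalRing (Am ⧸ Ideal.ofList sA) := IsLocalRing.of_surjective' _ Ideal.Quotient.mk_surjective
  refine (gorenstein_iff_quot sA (hwA _ hts) hsAm).mpr ?_
  have hAm : maximalIdeal (Am ⧸ Ideal.ofList sA) = (maximalIdeal Am).map (Ideal.Quotient.mk _) :=
    (IsLocalRing.map_maximalIdeal_of_surjective _ Ideal.Quotient.mk_surjective).symm
  refine gorenstein_of_simple_socle ⟨N + 1, ?_⟩ ?_
  · rw [hAm, ← Ideal.map_pow, Submodule.zero_eq_bot, Ideal.map_eq_bot_iff_le_ker, Ideal.mk_ker, hsA]
    intro z hz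
    refine hcon' z (hNle ?_)
    have h1 := Ideal.mem_map_of_mem ι hz
    rw [Ideal.map_pow] at h1
    refine Ideal.pow_right_mono (Ideal.map_le_iff_le_comap.mpr fun w hw => ?_) _ h1
    by_contra hnu
    exact hw ((isUnit_map_iff ι w).mp (notMem_maximalIdeal.mp hnu))
  -- every socle element is a unit multiple of the determinant
  let mkQ := Ideal.Quotient.mk (Ideal.ofList sA)
  have key : ∀ z : Am, mkQ z ≠ 0 → (∀ r ∈ maximalIdeal Am, r * z ∈ Ideal.ofList sA) →
      ∃ v : Am, IsUnit v ∧ ι z - ι v * Δ ∈ Ideal.span (Set.range θL) := by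
    intro z hz0 hzs
    obtain ⟨a₀, s₀, rfl⟩ := IsLocalization.exists_mk'_eq m.primeCompl z
    have hs₀ : IsUnit (algebraMap A Am s₀) := IsLocalization.map_units Am s₀
    have hza : algebraMap A Am s₀ * IsLocalization.mk' Am a₀ s₀ = algebraMap A Am a₀ :=
      IsLocalization.mk'_spec' Am a₀ s₀
    have hza' : toL a₀ ∉ Ideal.span (Set.range θL) := fun h => hz0 (Ideal.Quotient.eq_zero_iff_mem.mpr (by
      rw [← Ideal.unit_mul_mem_iff_mem _ hs₀, hza, hsA]
      exact hcon' _ (by rwa [hι])))
    have hΔsoc : ∀ w ∈ maximalIdeal Q, w * Ideal.Quotient.mk _ Δ = 0 := fun w hw => by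
      rw [hQm] at hw
      obtain ⟨w, hwm, rfl⟩ := (Ideal.mem_map_iff_of_surjective _ Ideal.Quotient.mk_surjective).mp hw
      rw [← map_mul, Ideal.Quotient.eq_zero_iff_mem, hofL]
      rw [maximal_eq_span] at hwm
      obtain ⟨d, rfl⟩ := (Ideal.mem_span_range_iff_exists_fun (R := Loc k n)).mp hwm
      rw [Finset.sum_mul]
      exact Ideal.sum_mem _ fun j _ => by rw [mul_assoc, mul_comm (φ (X j))]; exact Ideal.mul_mem_left _ _ (hΔm j)
    obtain ⟨c, hc⟩ := exists_mul_eq_socle (Q := Q) ⟨N, hN⟩ (a := Ideal.Quotient.mk _ (toL a₀))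
      (fun h => hza' (hofL ▸ Ideal.Quotient.eq_zero_iff_mem.mp h)) hΔsoc
    obtain ⟨b, hb⟩ := Ideal.Quotient.mk_surjective c
    have h1 : toL a₀ * b - Δ ∈ Ideal.span (Set.range θL) := by
      rw [← hofL, ← Ideal.Quotient.eq_zero_iff_mem, map_sub, map_mul, hb, hc]
      ring
    obtain ⟨p, s, rfl⟩ := IsLocalization.exists_mk'_eq (origin k n).primeCompl b
    obtain ⟨v, hv, t, ht⟩ := exists_norm (A := A) ρG hC hX s s.2
    have h2 : φ (e a₀ * (p * t) - e v * aM.det) ∈ Ideal.span (Set.range θL) := by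
      have h3 := Ideal.mul_mem_left _ (φ (t * s)) h1
      convert h3 using 1
      rw [map_sub, map_mul, map_mul, mul_sub, ht, map_mul φ t (s : B), map_mul]
      show _ = φ t * φ s * (φ (e a₀) * _) - φ t * φ s * φ aM.det
      rw [show φ t * φ s * (φ (e a₀) * IsLocalization.mk' (Loc k n) p s) =
        φ t * φ (e a₀) * (φ s * IsLocalization.mk' (Loc k n) p s) by ring, IsLocalization.mk'_spec']
      simp only [φ, map_mul]
      ring
    let J : Ideal B := (Ideal.span (Set.range θL)).comap φ
    have hJst : ∀ (g : G) (q : B), q ∈ J → g • q ∈ J := fun g q hq => by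
      have hθ : Ideal.span (Set.range θL) = ((Ideal.span (Set.range θ)).map e).map φ := by
        rw [Ideal.map_map, Ideal.map_span, ← Set.range_comp]
        rfl
      rw [Ideal.mem_comap, hθ] at hq ⊢
      obtain ⟨s', hs', h5⟩ := (mem_map_loc_iff _ _).mp hq
      refine (mem_map_loc_iff _ _).mpr ⟨g • s', fun h => hs' ((smul_mem_origin_iff ρG hC hX g s').mp h), ?_⟩
      rw [← smul_mul']
      have hst : (Ideal.span (Set.range θ)).map e ≤
          ((Ideal.span (Set.range θ)).map e).comap (MulSemiringAction.toRingHom G B g) :=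
        Ideal.map_le_iff_le_comap.mpr fun y hy => by
          show g • e y ∈ (Ideal.span (Set.range θ)).map e
          rw [smul_algebraMap]
          exact Ideal.mem_map_of_mem _ hy
      exact hst h5
    have h4 : e (ρ (e a₀ * (p * t))) - e v * aM.det ∈ J := hρI J _ _ fun g => by
      have h5 := hJst g _ h2
      rw [smul_sub, smul_mul' g (e v), smul_algebraMap] at h5
      have h6 : e v * (g • aM.det) - e v * aM.det ∈ J := by
        rw [← mul_sub]
        refine Ideal.mul_mem_left _ _ ?_
        show φ (g • aM.det - aM.det) ∈ Ideal.span (Set.range θL)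
        rw [map_sub]
        exact hΔg g
      convert add_mem h5 h6 using 1
      ring
    rw [← Algebra.smul_def, map_smul, smul_eq_mul, map_mul (algebraMap A (MvPolynomial (Fin n) k))] at h4
    have hval : φ (e a₀) * φ (e (ρ (p * t))) - φ (e v) * Δ ∈ Ideal.span (Set.range θL) := by
      have : φ (e a₀ * e (ρ (p * t)) - e v * aM.det) ∈ Ideal.span (Set.range θL) := h4
      rwa [map_sub, map_mul φ, map_mul φ] at this
    have hunit : IsUnit (algebraMap A Am (ρ (p * t))) := by
      by_contra hnu
      have h7 := Ideal.mem_map_of_mem ι (hzs _ (mem_maximalIdeal _ |>.mpr hnu))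
      rw [hsA, Ideal.map_span, ← Set.range_comp, show (ι ∘ fun i => algebraMap A Am (θ i)) = θL from funext fun i => hι _,
        map_mul, hι] at h7
      have h8 := Ideal.mul_mem_left _ (ι (algebraMap A Am s₀)) h7
      rw [mul_left_comm, ← map_mul, hza, hι, mul_comm] at h8
      have h9 := sub_mem h8 hval
      rw [show toL a₀ * toL (ρ (p * t)) - (φ (e a₀) * φ (e (ρ (p * t))) - φ (e v) * Δ) = toL v * Δ by
        show φ (e a₀) * φ (e (ρ (p * t))) - _ = φ (e v) * Δ
        ring] at h9
      refine hΔ0 ((Ideal.unit_mul_mem_iff_mem _ ?_).mp h9)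
      rw [← hι]
      exact (IsLocalization.map_units Am (⟨v, hv⟩ : m.primeCompl)).map ι
    have hvu : IsUnit (algebraMap A Am v) := IsLocalization.map_units Am (⟨v, hv⟩ : m.primeCompl)
    refine ⟨hs₀.unit⁻¹.val * hunit.unit⁻¹.val * algebraMap A Am v,
      ((Units.isUnit _).mul (Units.isUnit _)).mul hvu, ?_⟩
    have h10 := Ideal.mul_mem_left _ (ι (hs₀.unit⁻¹.val * hunit.unit⁻¹.val)) hval
    convert h10 using 1
    rw [mul_sub, show φ (e a₀) = ι (algebraMap A Am a₀) from (hι _).symm,
      show φ (e (ρ (p * t))) = ι (algebraMap A Am (ρ (p * t))) from (hι _).symm,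
      show φ (e v) = ι (algebraMap A Am v) from (hι _).symm, ← mul_assoc, ← mul_assoc, ← map_mul, ← map_mul, ← map_mul]
    congr 2
    rw [← hza]
    have e1 := hs₀.val_inv_mul
    have e2 := hunit.val_inv_mul
    calc IsLocalization.mk' Am a₀ s₀
        = (hs₀.unit⁻¹.val * algebraMap A Am s₀) * (hunit.unit⁻¹.val * algebraMap A Am (ρ (p * t))) *
          IsLocalization.mk' Am a₀ s₀ := by rw [e1, e2, one_mul, one_mul]
      _ = _ := by ring
  intro s hs hss t hts'
  obtain ⟨z, rfl⟩ := Ideal.Quotient.mk_surjective s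
  obtain ⟨w, rfl⟩ := Ideal.Quotient.mk_surjective t
  have hlift : ∀ z : Am, (∀ r ∈ maximalIdeal (Am ⧸ Ideal.ofList sA), r * mkQ z = 0) →
      ∀ r ∈ maximalIdeal Am, r * z ∈ Ideal.ofList sA := fun z h r hr => by
    rw [← Ideal.Quotient.eq_zero_iff_mem, map_mul]
    exact h _ (hAm ▸ Ideal.mem_map_of_mem _ hr)
  by_cases hw : mkQ w = 0
  · exact ⟨0, by rw [zero_mul]; exact hw⟩
  obtain ⟨v, hv, hzv⟩ := key z hs (hlift z hss)
  obtain ⟨v', hv', hwv⟩ := key w hw (hlift w hts')
  refine ⟨mkQ (v' * hv.unit⁻¹.val), ?_⟩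
  rw [← map_mul, Ideal.Quotient.eq, hsA]
  refine hcon' _ ?_
  have := sub_mem hwv (Ideal.mul_mem_left _ (ι (v' * hv.unit⁻¹.val)) hzv)
  convert this using 1
  have e1 : hv.unit⁻¹.val * v = 1 := hv.val_inv_mul
  have e2 : ι (v' * hv.unit⁻¹.val) * (ι v * Δ) = ι v' * Δ := by
    rw [← mul_assoc, ← map_mul, mul_assoc v', e1, mul_one]
  rw [map_sub, mul_sub, e2, map_mul ι (v' * hv.unit⁻¹.val) z]
  ring

end Groth.Agent.InvGor
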