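import Groth.Agent.InvGor.Alg
import Mathlib.RingTheory.MvPolynomial.Ideal
import Mathlib.RingTheory.RegularLocalRing.Polynomial
import Mathlib.RingTheory.Localization.AtPrime.Basic

/-!
# The local ring of affine space at the origin
-/

set_option autoImplicit false
set_option linter.unusedSectionVars false
set_option linter.style.haveILetI false

universe u

open MvPolynomial IsLocalRing RingTheory.Sequence

namespace Groth.Agent.InvGor

variable {k : Type u} [Field k] {n : ℕ}

local notation "B" => MvPolynomial (Fin n) k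

variable (k n) in
/-- The ideal of the origin. -/
noncomputable def origin : Ideal (MvPolynomial (Fin n) k) :=
  RingHom.ker (constantCoeff : MvPolynomial (Fin n) k →+* k)

instance : (origin k n).IsPrime := RingHom.ker_isPrime _

theorem mem_origin_iff (p : B) : p ∈ origin k n ↔ constantCoeff p = 0 := Iff.rfl

theorem origin_eq_span : origin k n = Ideal.span (Set.range (X : Fin n → B)) := by
  refine le_antisymm (fun p hp => ?_) (Ideal.span_le.mpr ?_)
  · rw [mem_origin_iff, constantCoeff_eq] at hp
    rw [← Set.image_univ, mem_ideal_span_X_image]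
    intro d hd
    by_contra hne
    push Not at hne
    have : d = 0 := Finsupp.ext fun i => hne i (Set.mem_univ i)
    subst this
    exact mem_support_iff.mp hd hp
  · rintro _ ⟨i, rfl⟩
    exact constantCoeff_X _ i

/-- A power of a variable is regular modulo powers of the others. -/
theorem pow_regular (N : ℕ) {s : Set (Fin n)} {i : Fin n} (hi : i ∉ s) (r : B)
    (h : r * X i ^ N ∈ Ideal.span ((fun j => (X j : B) ^ N) '' s)) :
    r ∈ Ideal.span ((fun j => (X j : B) ^ N) '' s) := by
  classical
  have e : (fun j => (X j : B) ^ N) '' s = (fun d => monomial d (1 : k)) '' ((fun j => Finsupp.single j N) '' s) := by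
    rw [Set.image_image]
    simp [X_pow_eq_monomial]
  rw [e, mem_ideal_span_monomial_image] at h ⊢
  intro d hd
  obtain ⟨_, ⟨j, hj, rfl⟩, hle⟩ := h (d + Finsupp.single i N) (by
    rw [mem_support_iff, X_pow_eq_monomial, coeff_mul_monomial, mul_one]
    exact mem_support_iff.mp hd)
  refine ⟨_, ⟨j, hj, rfl⟩, ?_⟩
  rw [Finsupp.single_le_iff] at hle ⊢
  simpa [Finsupp.single_apply, show i ≠ j from fun he => hi (he ▸ hj)] using hle

/-- The product of the one lower powers is outside the ideal of powers, up to units at the origin. -/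
theorem prod_pow_notMem (N : ℕ) {s : B} (hs : s ∉ origin k n) :
    s * ∏ i, (X i : B) ^ N ∉ Ideal.span (Set.range fun j => (X j : B) ^ (N + 1)) := by
  classical
  intro h
  have e : (Set.range fun j => (X j : B) ^ (N + 1)) =
      (fun d => monomial d (1 : k)) '' (Set.range fun j => Finsupp.single j (N + 1)) := by
    rw [← Set.range_comp]
    simp [Function.comp_def, X_pow_eq_monomial]
  rw [e, mem_ideal_span_monomial_image] at h
  let d : Fin n →₀ ℕ := Finsupp.equivFunOnFinite.symm fun _ => N
  have hp : ∏ i, (X i : B) ^ N = monomial d 1 := by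
    rw [monomial_eq, C_1, one_mul, Finsupp.prod_fintype _ _ fun i => pow_zero _]
    simp [d]
  obtain ⟨_, ⟨j, rfl⟩, hle⟩ := h d (by
    rw [mem_support_iff, hp, coeff_mul_monomial', if_pos le_rfl, tsub_self, mul_one]
    exact fun h0 => hs ((mem_origin_iff s).mpr (by rw [constantCoeff_eq]; exact h0)))
  rw [Finsupp.single_le_iff] at hle
  simp [d] at hle

variable (k n) in
/-- The local ring at the origin. -/
abbrev Loc : Type u := Localization.AtPrime (origin k n)

instance : IsRegularLocalRing (Loc k n) := IsRegularRing.isRegularLocalRing_localization _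

theorem map_mem_maximal_iff (p : B) :
    algebraMap B (Loc k n) p ∈ maximalIdeal (Loc k n) ↔ p ∈ origin k n :=
  IsLocalization.AtPrime.to_map_mem_maximal_iff (Loc k n) (origin k n) p

theorem maximal_eq_span :
    maximalIdeal (Loc k n) = Ideal.span (Set.range fun i => algebraMap B (Loc k n) (X i)) := by
  rw [← Localization.AtPrime.map_eq_maximalIdeal]
  refine (congrArg (Ideal.map _) origin_eq_span).trans ?_
  rw [Ideal.map_span, ← Set.range_comp]
  rfl

theorem mem_map_loc_iff (I : Ideal B) (p : B) :
    algebraMap B (Loc k n) p ∈ I.map (algebraMap B (Loc k n)) ↔ ∃ s ∉ origin k n, s * p ∈ I :=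
  (IsLocalization.algebraMap_mem_map_algebraMap_iff (origin k n).primeCompl (Loc k n) I p).trans
    ⟨fun ⟨s, hs, h⟩ => ⟨s, hs, h⟩, fun ⟨s, hs, h⟩ => ⟨s, hs, h⟩⟩

theorem pow_regular_loc (N : ℕ) : ∀ l : List (Fin n), l.Nodup →
    IsWeaklyRegular (Loc k n) (l.map fun j => algebraMap B (Loc k n) (X j ^ N)) := by
  intro l
  induction l using List.reverseRecOn with
  | nil => intro _; exact IsWeaklyRegular.nil _ _
  | append_singleton l i ih =>
    intro hl
    rw [List.nodup_append] at hl
    rw [List.map_append]
    refine (weaklyRegular_concat_iff _ _).mpr ⟨ih hl.1, fun r hr => ?_⟩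
    have e : Ideal.ofList (l.map fun j => algebraMap B (Loc k n) (X j ^ N)) =
        (Ideal.span ((fun j => (X j : B) ^ N) '' {j | j ∈ l})).map (algebraMap B (Loc k n)) := by
      rw [Ideal.map_span, Set.image_image]
      show Ideal.span _ = _
      congr 1
      ext z
      simp
    rw [e] at hr ⊢
    obtain ⟨p, s, rfl⟩ := IsLocalization.exists_mk'_eq (origin k n).primeCompl r
    have h1 : algebraMap B (Loc k n) (p * X i ^ N) ∈
        (Ideal.span ((fun j => (X j : B) ^ N) '' {j | j ∈ l})).map (algebraMap B (Loc k n)) := by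
      have := Ideal.mul_mem_left _ (algebraMap B (Loc k n) s) hr
      rwa [← mul_assoc, IsLocalization.mk'_spec', ← map_mul] at this
    obtain ⟨t, ht, h2⟩ := (mem_map_loc_iff _ _).mp h1
    rw [← mul_assoc] at h2
    have h3 := pow_regular N (show i ∉ {j | j ∈ l} from fun hi => hl.2.2 i hi i (by simp) rfl) _ h2
    have h4 := (mem_map_loc_iff _ p).mpr ⟨t, ht, h3⟩
    rw [IsLocalization.mk'_eq_mul_mk'_one]
    exact Ideal.mul_mem_right _ _ h4

theorem ringKrullDim_loc : ringKrullDim (Loc k n) = n := by
  have h := pow_regular_loc (k := k) (n := n) 1 (List.finRange n) (List.nodup_finRange n)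
  simp only [pow_one] at h
  have hm : ∀ r ∈ (List.finRange n).map (fun j => algebraMap B (Loc k n) (X j)), r ∈ maximalIdeal (Loc k n) := by
    simp only [List.mem_map]
    rintro _ ⟨j, -, rfl⟩
    rw [maximal_eq_span]
    exact Ideal.subset_span ⟨j, rfl⟩
  have hr := (IsLocalRing.isRegular_iff_isWeaklyRegular_of_subset_maximalIdeal hm).mpr h
  have e := ringKrullDim_add_length_eq_ringKrullDim_of_isRegular _ hr
  have e2 : Ideal.ofList ((List.finRange n).map fun j => algebraMap B (Loc k n) (X j)) = maximalIdeal (Loc k n) := by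
    rw [maximal_eq_span]
    show Ideal.span _ = _
    congr 1
    ext z
    simp
  rw [e2] at e
  have e3 : ringKrullDim (Loc k n ⧸ maximalIdeal (Loc k n)) = 0 :=
    ringKrullDim_eq_zero_of_isField ((Ideal.Quotient.maximal_ideal_iff_isField_quotient _).mp inferInstance)
  rw [e3, zero_add, List.length_map, List.length_finRange] at e
  exact e.symm

variable (θ : Fin n → Loc k n)

/-- The determinant of a coefficient matrix lies in no ideal of a regular system of parameters. -/
theorem det_notMem 
    {N : ℕ} (hN : maximalIdeal (Loc k n) ^ (N + 1) ≤ Ideal.span (Set.range θ))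
    (a : Matrix (Fin n) (Fin n) (Loc k n))
    (h : Matrix.mulVec a (fun i => algebraMap B (Loc k n) (X i)) = θ) :
    a.det ∉ Ideal.span (Set.range θ) := by
  classical
  intro hmem
  set x : Fin n → Loc k n := fun i => algebraMap B (Loc k n) (X i)
  let w : Fin n → Loc k n := fun j => algebraMap B (Loc k n) (X j ^ (N + 1))
  have hx : ∀ j, x j ∈ maximalIdeal (Loc k n) := fun j => maximal_eq_span (k := k) ▸ Ideal.subset_span ⟨j, rfl⟩
  have hc : ∀ j, ∃ c : Fin n → Loc k n, ∑ i, c i * θ i = w j := fun j => by
    refine (Ideal.mem_span_range_iff_exists_fun (R := Loc k n)).mp (hN ?_)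
    show algebraMap B (Loc k n) (X j ^ (N + 1)) ∈ _
    rw [map_pow]
    exact Ideal.pow_mem_pow (hx j) _
  choose c hc using hc
  let c' : Matrix (Fin n) (Fin n) (Loc k n) := Matrix.of c
  have hw : c'.mulVec θ = w := funext hc
  have hwl : List.ofFn w = (List.finRange n).map fun j => algebraMap B (Loc k n) (X j ^ (N + 1)) :=
    List.ofFn_eq_map
  have hwm : ∀ j, w j ∈ maximalIdeal (Loc k n) := fun j => by
    show algebraMap B (Loc k n) (X j ^ (N + 1)) ∈ _
    rw [map_pow]
    exact Ideal.pow_mem_of_mem _ (hx j) _ (Nat.succ_pos N)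
  have hdiag : (Matrix.diagonal fun j => x j ^ N).mulVec x = w := funext fun j => by
    rw [Matrix.mulVec_diagonal]
    show _ = algebraMap B (Loc k n) (X j ^ (N + 1))
    rw [map_pow, pow_succ]
  have h1 := det_sub_det_mem x w (regular_any_order w (hwl ▸ pow_regular_loc (N + 1) _ (List.nodup_finRange n)) hwm)
    (c' * a) (Matrix.diagonal fun j => x j ^ N) (by rw [← Matrix.mulVec_mulVec, h, hw]) hdiag
  have h2 : (c' * a).det ∈ Ideal.span (Set.range w) := by
    rw [Matrix.det_mul]
    have hθ : ∀ i, c'.det * θ i ∈ Ideal.span (Set.range w) := fun i =>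
      det_mul_mem c' θ _ (fun l => hw.symm ▸ Ideal.subset_span ⟨l, rfl⟩) i
    obtain ⟨d, hd⟩ := (Ideal.mem_span_range_iff_exists_fun (R := Loc k n)).mp hmem
    rw [← hd, Finset.mul_sum]
    exact Ideal.sum_mem _ fun i _ => by rw [mul_left_comm]; exact Ideal.mul_mem_left _ _ (hθ i)
  have h3 := sub_mem h2 h1
  rw [sub_sub_cancel, Matrix.det_diagonal] at h3
  have e : Ideal.span (Set.range w) =
      (Ideal.span (Set.range fun j => (X j : B) ^ (N + 1))).map (algebraMap B (Loc k n)) := by
    rw [Ideal.map_span, ← Set.range_comp]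
    rfl
  rw [e, show ∏ j, x j ^ N = algebraMap B (Loc k n) (∏ j, X j ^ N) by simp [x]] at h3
  obtain ⟨s, hs, h4⟩ := (mem_map_loc_iff _ _).mp h3
  exact prod_pow_notMem N hs h4

end Groth.Agent.InvGor
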